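import Mathlib
import Cfsg.Agent.Lib.Foc3.Global
import Cfsg.Agent.Lib.GN.Pair3
import Cfsg.Agent.Lib.GN.Func
import Cfsg.Agent.Lib.BHS.Red
import Cfsg.Agent.Lib.Push.Chief
import Cfsg.Agent.Lib.LAE.Gaschutz
import Cfsg.Agent.Lib.CFun.Chief

/-!
The local condition for the functor `KK`.
-/

set_option autoImplicit false
set_option linter.unusedSectionVars false
set_option maxHeartbeats 400000

namespace CfsgLib.Foc3

open Subgroup Cfsg CfsgLib.LAE CfsgLib.PLocal CfsgLib.Push CfsgLib.BHS CfsgLib.ZJ CfsgLib.SL2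
  CfsgLib.GN CfsgLib.Blocks
open Matrix MatrixGroups
open scoped commutatorElement

universe u

variable {G : Type*} [Group G] {p : ℕ}

open _root_.Classical in
/-- `S_Φ` if it is not trivial, else the join of the abelian subgroups of largest order. -/
noncomputable def K0 (p : ℕ) (B : Subgroup G) : Subgroup G :=
  if phiJ p B = ⊥ then thompsonSubgroupOf 0 B else phiJ p B

/-- The characteristic subgroup of the theorem. -/
noncomputable def KK (p : ℕ) (T : Subgroup G) : Subgroup G := K0 p (bau p T)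

section Map

variable {G' : Type*} [Group G'] {f : G →* G'} (hf : Function.Injective f)
include hf

theorem map_K0 (B : Subgroup G) : (K0 p B).map f = K0 p (B.map f) := by
  rw [K0, K0, ← map_phiJ hf]
  by_cases h : phiJ p B = ⊥
  · rw [if_pos h, if_pos (by rw [h, Subgroup.map_bot]), map_thompsonSubgroupOf hf]
  · rw [if_neg h, if_neg fun e => h ((map_eq_bot_iff_of_injective _ hf).1 e)]

theorem map_KK (T : Subgroup G) : (KK p T).map f = KK p (T.map f) := by
  rw [KK, KK, map_K0 hf, bau, bau, Push.map_cen hf, map_zj hf]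

end Map

theorem norm_K0 (B : Subgroup G) : normalizer (B : Set G) ≤ normalizer (K0 p B : Set G) := fun g hg => by
  rw [mem_normalizer_iff_conjS] at hg ⊢
  exact (map_K0 (MulAut.conj g).injective B).trans (congrArg _ hg)

variable [Finite G] [Fact p.Prime] {B S T P M A Q : Subgroup G}

theorem K0_ne_bot (hB : IsPGroup p B) (h : B ≠ ⊥) : K0 p B ≠ ⊥ := by
  rw [K0]
  split_ifs with h1
  · exact fun e => zj_ne_bot (Or.inl rfl) hB h
      (eq_bot_iff.2 ((zj_le_center B).trans (inf_le_left.trans e.le)))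
  · exact h1

theorem KK_ne_bot (hT : IsPGroup p T) (h : T ≠ ⊥) : KK p T ≠ ⊥ :=
  K0_ne_bot (hT.to_le (bau_le T)) fun e =>
    zj_ne_bot (Or.inr rfl) hT h (eq_bot_iff.2 ((zj_le_bau T).trans e.le))

theorem cen_self_of_comm (h : A ≤ centralizer (A : Set G)) : cen A A = A := inf_eq_left.2 h

section Ab

variable (hB : IsPGroup p B) (h0 : phiJ p B = ⊥)
include hB h0

theorem elemAb_of_mz (hQ : MZIn p B Q) : IsElementaryAbelian p Q :=
  (Core.map_frattini_eq_bot_iff_of_isPGroup (hB.to_le hQ.1.1.1)).1 (eq_bot_iff.2 ((le_iSup₂_of_le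
    (f := fun (Q : Subgroup G) (_ : MZIn p B Q) => phi Q) _ hQ le_rfl).trans h0.le))

theorem ab_of_mcl (hQ : MCLIn B Q) : Q ≤ centralizer (Q : Set G) := by
  obtain ⟨R, hR⟩ := exists_mzIn p B
  rw [← commutator_eq_bot_iff_le_centralizer, hQ.commutator_eq hR.1,
    commutator_eq_bot_iff_le_centralizer]
  exact elemAb_le_centralizer (elemAb_of_mz hB h0 hR)

theorem mcl_of_max (hA : A ∈ maxElemIn 0 B) : MCLIn B A := by
  obtain ⟨Q, hQ⟩ := exists_mclIn B
  have h1 := ab_of_mcl hB h0 hQ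
  have h2 := elemAb_le_centralizer hA.2.1
  have h3 := hA.2.2 Q hQ.1.1 (elemAb_zero_iff.2 (le_centralizer_iff_isMulCommutative.1 h1))
  have h4 := hQ.1.2
  have h5 := le_fm hA.1
  rw [cen_self_of_comm h1] at h4
  rw [cen_self_of_comm h2] at h5
  refine hQ.of_card_le (clIn_of_le hA.1 ?_) (Nat.mul_self_le_mul_self_iff.1 (h5.trans h4.ge))
  rw [cen_self_of_comm h2, ← h4]
  exact Nat.mul_le_mul h3 h3

theorem clIn_J : CLIn B (thompsonSubgroupOf 0 B) := by
  obtain ⟨A, hA⟩ := maxElemIn_nonempty (p := 0) B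
  obtain ⟨R, ⟨h1, h2⟩, h3⟩ := (Set.toFinite {R | CLIn B R ∧ R ≤ thompsonSubgroupOf 0 B}).exists_maximal
    ⟨A, (mcl_of_max hB h0 hA).1, le_thompsonSubgroupOf hA⟩
  rwa [← le_antisymm h2 (thompsonSubgroupOf_le_iff.2 fun A hA => le_sup_right.trans
    (h3 ⟨h1.sup (mcl_of_max hB h0 hA).1, sup_le h2 (le_thompsonSubgroupOf hA)⟩ le_sup_left))]

theorem cen_zj : cen B (zj 0 B) = thompsonSubgroupOf 0 B := by
  rw [zj_def, omegaOne_zero]
  exact (clIn_J hB h0).cen_cen

theorem base_J : Base p (thompsonSubgroupOf 0 B) := by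
  have h1 := clIn_J hB h0
  have h2 := h1.fm_eq le_rfl h1.1
  refine ⟨fun Q hQ => ab_of_mcl hB h0 (hQ.up h1.1 h2), h1.of_le le_rfl h1.1, ?_⟩
  obtain ⟨R, hR⟩ := exists_mzIn p B
  have h3 := elemAb_of_mz hB h0 hR
  refine elemAb_mono h3 (le_trans ?_ (hR.1.1.cen_eq.le.trans inf_le_left))
  refine inf_le_inf h1.1 (centralizer_anti (le_thompsonSubgroupOf ⟨hR.1.1.1, elemAb_zero_iff.2 h3.1,
    fun X hX hX' => ?_⟩))
  have h5 := le_fm hX
  rw [cen_self_of_comm (elemAb_le_centralizer hX'), ← hR.1.1.2,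
    cen_self_of_comm (elemAb_le_centralizer h3)] at h5
  exact Nat.mul_self_le_mul_self_iff.1 h5

end Ab

/-- If `Ω₁Z(S)` is central then so is `Z(S)`. -/
theorem top_le_centralizer_cen (hc : centralizer (pCore p G : Set G) ≤ pCore p G)
    (hS : IsSylowIn p S ⊤) (h : ⊤ ≤ centralizer (omegaZ p S : Set G)) :
    ⊤ ≤ centralizer (cen S S : Set G) := by
  have hQS : pCore p G ≤ S := pCoreOf_top.ge.trans hS.pCoreOf_le
  set V := cen (pCore p G) (pCore p G) with hV
  have hVc : V ≤ centralizer (V : Set G) := inf_le_right.trans (centralizer_anti inf_le_left)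
  have hVn : ⊤ ≤ normalizer (V : Set G) :=
    le_normalizer_cen le_normalizer_of_normal le_normalizer_of_normal
  have hcomm := le_centralizer_iff_isMulCommutative.1 hVc
  have key : ∀ k, ∀ x ∈ cen S S, x ^ p ^ k = 1 → x ∈ centralizer ((⊤ : Subgroup G) : Set G) := by
    intro k
    induction k with
    | zero => intro x _ hx; rw [pow_zero, pow_one] at hx; rw [hx]; exact one_mem _
    | succ k ih =>
      intro x hx h1
      have h2 := ih (x ^ p) (pow_mem hx p) (by rw [← pow_mul, ← pow_succ', h1])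
      have hxV : x ∈ V := ⟨hc (centralizer_anti hQS hx.2), centralizer_anti hQS hx.2⟩
      have h3 := mem_sup_of_not_dvd_relIndex (W := omegaOne p V)
        (isPGroup_pCore.to_le inf_le_left) hVc hVn le_top hS.not_dvd_relIndex hxV hx.2 fun g _ => by
          have h4 : g * x * g⁻¹ ∈ V := LAE.conj_mem_of_mem_normalizer (hVn (mem_top g)) hxV
          refine PLocal.mem_omegaOne (mul_mem h4 (inv_mem hxV)) ?_
          have h5 : Commute (g * x * g⁻¹) x⁻¹ := hVc (inv_mem hxV) _ h4
          rw [commutatorElement_def, h5.mul_pow, conj_pow, h2 g (mem_top g), inv_pow]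
          group
      obtain ⟨c, hc', w, hw, e⟩ := (mem_sup_iff_of_left_le_normalizer
        ((inf_le_left.trans hVc).trans ((centralizer_anti (omegaOne_le V)).trans
          (centralizer_le_normalizer _)))).1 h3
      have h6 := (PLocal.mem_omegaOne_iff hcomm).1 hw
      have h7 : w ∈ omegaZ p S := mem_omegaZ.2 ⟨hQS h6.1.1, by
        rw [eq_inv_mul_of_mul_eq e.symm]
        exact mul_mem (inv_mem (centralizer_anti le_top hc'.2)) hx.2, h6.2⟩
      rw [e]
      exact mul_mem hc'.2 (le_centralizer_iff.1 h h7)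
  refine le_centralizer_iff.1 fun x hx => ?_
  obtain ⟨k, hk⟩ := isPGroup_iff_forall_mem.1 hS.isPGroup x hx.1
  exact key k x hx hk

theorem exists_pu1 (h : CP p T M) (hB : normalizer (bau p T : Set G) ≤ M) :
    ∃ P M₁, PU p (bau p T) P M₁ ∧ ¬ P ≤ M := by
  have hJ : normalizer (thompsonSubgroupOf p T : Set G) ≤ M := by
    refine h.min.max _ (le_normalizer.trans (normalizer_le_normalizer_thompsonSubgroupOf T))
      (lt_top_iff_ne_top.2 fun e => h.min.not_le (le_trans ?_ hB))
    have h1 : ⊤ ≤ normalizer (zj p T : Set G) := by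
      rw [← zj_eq_of_le (thompsonSubgroupOf_le T) le_rfl]
      exact e.ge.trans (normalizer_le_normalizer_zj _)
    have h2 := h1.trans (normalizer_le_normalizer_centralizer _)
    have h3 := h.min.le_op_of_normal h.syl.isPGroup ((centralizer_anti (omegaZ_le_zj T)).trans h.cZ) h2
      (h.syl.isPGroup.to_le (bau_le T)) (bau_le_centralizer T)
    rw [show bau p T = cen (pCoreOf p ⊤) (zj p T) from le_antisymm (le_inf h3 inf_le_right)
      (inf_le_inf_right _ h.syl.pCoreOf_le)]
    exact le_normalizer_cen (le_normalizer_pCoreOf _) h1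
  obtain ⟨A₀, hA₀, A, hAA, hA⟩ := h.exists_root hJ
  have hAT := hAA.trans (map_mono (mem_maxElemIn.1 hA₀).1)
  obtain ⟨B, hB, hBM, -, hN, hc⟩ := h.pm.exists_natL hA hAT
  obtain ⟨P, M₁, h1, h2, -⟩ := h.exists_PU hJ hN (sup_le hA.le hB.le) hc
    ((sup_JJ' hA hAT).trans (h.map_bau hJ).symm)
  exact ⟨P, M₁, h1, fun e => hBM (((le_sup_right.trans le_sup_left).trans h2.ge).trans (map_mono e))⟩

theorem exists_pu2 (h : PU p B P M) (hz : ¬ P ≤ normalizer (cen B B : Set G))
    (hJ : ¬ thompsonSubgroupOf 0 B ≤ pCoreOf p P) :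
    ∃ P₂ ≤ P, ∃ M₂, PU p (cen B (zj 0 B)) P₂ M₂ ∧ P ≤ P₂ ⊔ cen P (VV p P) ∧
      ⁅pCoreOf p P, P₂⁆ ≤ P₂ := by
  obtain ⟨A, hA, hAQ⟩ : ∃ A ∈ maxElemIn 0 B, ¬ A ≤ pCoreOf p P := by
    by_contra! hc
    exact hJ (thompsonSubgroupOf_le_iff.2 hc)
  have hV := elemAb_zero_iff.2 (VV_comm h.charP)
  obtain ⟨F, _, _, N, d1, d2, d3, -, -, d4, -⟩ := h.exists_natData_of_maxElemIn hz hV hA hAQ
  have := charP_of_relIndex h.pS d4
  have h3 := h.baumann_sylow h.VQ le_normalizer_VV Q_le_centralizer_VV (h.not_pResOf_le hz) hV hJ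
  set L := nclIn (cen B (zj 0 B)) P
  have hL : L ≤ P := nclIn_le_of_le (inf_le_left.trans h.SP)
  have hB : N.img (cen B (zj 0 B)) = upU F :=
    le_antisymm ((N.img_mono inf_le_left).trans d2.le) (d1.ge.trans (N.img_mono (le_cen_zj hA)))
  have h5 : N.img L = ⊤ := by
    obtain ⟨y, hy, hy', e⟩ := N.mem_img.1 (N.img_self.ge (mem_top ww))
    refine eq_top_iff.2 ((upU_sup_conjS ww_not_mem_borel).ge.trans ?_)
    rw [← hB, ← e, ← N.img_conjS hy]
    exact sup_le (N.img_mono (le_nclIn _ _)) (N.img_mono (conjS_le_nclIn hy'))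
  have h6 := h.syl.inf_of_normal hL (le_normalizer_nclIn _ _)
  rw [h3] at h6
  obtain ⟨P', hP1, M', k1, k2, -⟩ := exists_PU_of_nat ((N.restrict hL).cast h5)
    (h.charP.of_normal hL (le_normalizer_nclIn _ _)) h6 (by
      rw [← hB]
      ext g
      simp only [NatData.mem_img]
      exact ⟨fun ⟨y, a, b, c⟩ => ⟨y, hL a, b, c⟩, fun ⟨y, a, b, c⟩ => ⟨y, h6.le b, b, c⟩⟩)
  refine ⟨P', hP1.trans hL, M', k1, N.le_of_img_le le_rfl (d3.le.trans le_sup_right)
    (le_top.trans (k2.ge.trans fun g hg => ?_)), le_trans (le_inf ?_ ?_) (h3.le.trans k1.SP)⟩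
  · obtain ⟨y, a, b, c⟩ := (NatData.mem_img _).1 hg
    exact N.mem_img.2 ⟨y, hL a, mem_sup_left b, c⟩
  · exact (commutator_le_left_of_le_normalizer ((hP1.trans hL).trans (le_normalizer_pCoreOf P))).trans
      h.QS
  · exact (commutator_mono le_rfl hP1).trans (commutator_le_right_of_le_normalizer
      ((pCoreOf_le P).trans (le_normalizer_nclIn _ _)))

theorem max_le (n : Nz p S P M) {X : Subgroup G} (h1 : centralizer (cen S S : Set G) ≤ X)
    (h2 : normalizer (S : Set G) ≤ X) : M ≤ X := by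
  obtain ⟨F, _, _, D, d1, d2, -, -⟩ := n.exists_nat
  have hk : D.ker ≤ M := d2.le.trans (le_trans (cen_anti (le_inf n.VQ
    (le_centralizer_iff.1 Q_le_centralizer_VV))) (n.cen_P_V n.nz))
  have hb : D.img M ≤ borel F := (uniqMax_upU.eq_or_le (d1.ge.trans (D.img_mono n.SM)) le_top).resolve_left
    fun e => n.not_le (D.le_of_img_le le_rfl hk (le_top.trans e.ge))
  have hR : phiPre D (upU F) ≤ S ⊔ D.ker := D.le_of_img_le (fun x hx => (mem_phiPre.1 hx).1) le_sup_right
    fun g hg => by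
      obtain ⟨y, -, b, rfl⟩ := D.mem_img.1 hg
      exact D.img_mono le_sup_left (d1.ge (mem_phiPre.1 b).2)
  have hS : IsSylowIn p S (phiPre D (upU F)) :=
    n.syl.mono ((le_phiPre n.SP).2 d1.le) fun x hx => (mem_phiPre.1 hx).1
  intro m hm
  have hmP := n.MP hm
  have hn : m ∈ normalizer (phiPre D (upU F) : Set G) := mem_normalizer_of_conjS_le fun x hx => by
    obtain ⟨y, hy, rfl⟩ := hx
    have hy' := mem_phiPre.1 hy
    refine mem_phiPre.2 ⟨mul_mem (mul_mem hmP hy'.1) (inv_mem hmP), ?_⟩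
    rw [MulEquiv.toMonoidHom_eq_coe, MonoidHom.coe_coe, MulAut.conj_apply, D.φ_conj hmP hy'.1]
    exact LAE.conj_mem_of_mem_normalizer (borel_le_normalizer (hb (D.φ_mem_img hmP hm))) hy'.2
  obtain ⟨a, ha, y, hy, rfl⟩ := hS.frattini hn
  refine mul_mem (sup_le (le_normalizer.trans h2) (d2.le.trans ?_) (hR ha)) (h2 hy)
  exact (inf_le_right.trans (centralizer_anti n.zs_le)).trans h1

/-- The transfer argument in a pushing up group in which `A` acts quadratically. -/
theorem engel (hp : p ≠ 2) (n : Nz p S P M) : pCoreOf p P ⊓ ⁅P, P⁆ ≤ ⁅M, M⁆ := by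
  obtain ⟨A, hA, hAT⟩ := n.ex
  obtain ⟨g, hg, hgM⟩ := n.exists_opp
  obtain ⟨S', M', B, Y, U, H, r⟩ := n.exists_pr hA hAT hg hgM
  obtain ⟨a, ha, haT⟩ := SetLike.not_le_iff_exists.1 hAT
  have q1 : ⁅⁅ht p P, A⁆, A⁆ ≤ zt p P := by
    refine (commutator_mono (commutator_le.2 fun y hy b hb =>
      comm_swap (r.comm_A hb (r.ht_le hy))) le_rfl).trans (commutator_le.2 fun x hx b hb => ?_)
    obtain ⟨c, hc, z, hz, rfl⟩ := mem_st hx
    refine comm_swap ?_
    rw [comm_mul_right, comm_eq_one (r.ab hc.1) hb, one_mul]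
    exact LAE.conj_mem_of_mem_normalizer (norm_zt (r.AP hc.1))
      (commutator_mem_of_normalizer (norm_zt (r.AP hb)) hz)
  have q2 : ⁅⁅zt p P, A⁆, A⁆ ≤ ⊥ := by
    refine (commutator_mono (commutator_le.2 fun z hz b hb =>
      comm_swap (n.comm_mem (r.AS hb) hz)) r.AS).trans ?_
    exact (commutator_eq_bot_iff_le_centralizer.2 inf_le_right).le
  have h2p : 2 ≤ p - 1 := by
    have := (Fact.out : p.Prime).two_le
    omega
  let u : P := ⟨a, r.AP ha⟩
  have hu : (zpowers u).map P.subtype ≤ A := by rw [MonoidHom.map_zpowers]; exact zpowers_le.2 ha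
  have key : ∀ X Z : Subgroup G, ⁅⁅X, A⁆, A⁆ ≤ Z →
      iterCommutator (X.subgroupOf P) (zpowers u) 2 ≤ Z.subgroupOf P := fun X Z h => by
    rw [subgroupOf, subgroupOf, ← map_le_iff_le_comap, CFun.map_iterCommutator]
    exact (commutator_mono (commutator_mono (map_comap_le _ _) hu) hu).trans h
  have : ((ht p P).subgroupOf P).Normal := normal_subgroupOf_of_le_normalizer norm_ht
  have : ((zt p P).subgroupOf P).Normal := normal_subgroupOf_of_le_normalizer norm_zt
  have h1 := CFun.inf_commutator_le_of_engel (p := p) (S := S.subgroupOf P) (M := M.subgroupOf P)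
    (Tech.IsSylowIn.of_sylow_top (CFun.sylIn_ofLAE n.syl).toSylow) (subgroupOf_mono P n.SM)
    (fun K h1 h2 => by
      rw [subgroupOf, ← map_le_iff_le_comap]
      refine n.uniq.2.2 _ ((map_subgroupOf_eq_of_le n.SP).ge.trans (map_mono h1))
        (lt_of_le_of_ne (map_subtype_le _) fun e => h2 ?_)
      exact map_injective P.subtype_injective (e.trans (map_top_subtype P).symm))
    (u := u) (r.AS ha) (fun h => haT ⟨u, h, rfl⟩) fun U V h hU => by
      have := h.2.1
      have := h.2.2.1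
      by_cases e : U ⊓ (ht p P).subgroupOf P ≤ V
      · refine CFun.iterCommutator_le_of_le le_normalizer_of_normal (m := 1) (by omega) ?_
        refine (commutator_mono le_rfl le_top).trans (chief_commutator_le_of_res h
          (isPGroup_pCore.to_le hU) (le_trans (le_inf (commutator_le_left U _) ?_) e))
        rw [subgroupOf, ← map_le_iff_le_comap, map_commutator, map_pResOf, map_top_subtype]
        exact commutator_mono (map_mono hU) le_rfl
      · refine CFun.iterCommutator_le_of_cover h e ((CFun.chief_iter_le_of_filtration h2p h2p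
          (key _ _ q1) ?_ (CFun.chief_inf h e) inf_le_right).trans inf_le_left)
        exact eq_bot_iff.2 ((key _ _ q2).trans (bot_subgroupOf P).le)
  have h2 := map_mono (f := P.subtype) h1
  rwa [Subgroup.map_inf _ _ _ P.subtype_injective, map_commutator, map_commutator, map_top_subtype,
    map_subgroupOf_eq_of_le n.MP] at h2

/-- The functor. -/
noncomputable def WW (p : ℕ) (Q : Type u) [Group Q] : Subgroup Q := KK p ⊤

omit [Finite G] in
theorem isCharPFunctor_WW : IsCharPFunctor.{u} p (WW p) :=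
  ⟨fun _ _ _ h _ => KK_ne_bot (h.to_subgroup ⊤) top_ne_bot, fun _ _ _ _ _ _ φ => by
    rw [WW, map_KK φ.injective, map_top_of_surjective _ φ.surjective, WW]⟩

theorem loc (hp : p ≠ 2) : Loc.{u} p (WW p) := by
  intro G _ _ S M hc hS hS0 hM hmax hZ hK
  rw [inducedFunctor, WW, map_KK S.subtype_injective, map_top_subtype, KK] at hK
  replace hS := CFun.sylIn_toLAE hS
  have hSM : S ≤ M := (le_cent_cen S).trans hZ
  have hgen : ∀ N : Subgroup G, S ≤ N → ⊤ ≤ normalizer (N : Set G) → ⊤ ≤ N := fun N h1 h2 => by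
    by_contra h3
    refine hM (top_le_iff.1 (((hS.mono h1 le_top).frattini_sup le_top h2).ge.trans (sup_le
      (hmax N h1 fun e => h3 e.ge) (inf_le_right.trans ?_))))
    exact ((normalizer_le_normalizer_bau S).trans (norm_K0 _)).trans hK
  have h : CP p S M := ⟨hc, hS, ⟨hSM, lt_top_iff_ne_top.2 hM, fun X h1 h2 => hmax X h1 h2.ne,
      fun N h1 _ h2 => hgen N h1 h2⟩,
    hmax _ (le_centralizer_omegaZ S) fun e =>
      hM (top_le_iff.1 ((top_le_centralizer_cen hc hS e.ge).trans hZ))⟩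
  obtain ⟨P, M₁, h1, hP⟩ := exists_pu1 h ((norm_K0 _).trans hK)
  set B := bau p S with hB
  have hzc : ∀ X Y : Subgroup G, X ≤ S → Y ≤ X → centralizer (cen (cen X Y) (cen X Y) : Set G) ≤
      centralizer (cen X X : Set G) := fun X Y _ h2 => centralizer_anti
    (le_inf (cen_anti h2) (inf_le_right.trans (centralizer_anti inf_le_left)))
  have hZ1 : centralizer (cen B B : Set G) ≤ M := (hzc S _ le_rfl (zj_le S)).trans hZ
  have hz : ¬ P ≤ normalizer (cen B B : Set G) := fun e => hP ((le_centralizer_of_norm_cen h1 e).trans hZ1)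
  by_cases h0 : phiJ p B = ⊥
  swap
  · rw [K0, if_neg h0] at hK
    exact absurd ((norm_phiJ h1 hz).trans hK) hP
  rw [K0, if_pos h0] at hK
  have hJ := cen_zj h1.pS h0
  by_cases h2 : thompsonSubgroupOf 0 B ≤ pCoreOf p P
  · have := h1.baumann_normal h2 (h1.not_pResOf_le_zj hz)
    rw [hJ] at this
    exact absurd (this.trans hK) hP
  obtain ⟨P₂, hP₂, M₂, h3, h4, h5⟩ := exists_pu2 h1 hz h2
  have hZ2 := (hzc B _ (bau_le S) (zj_le (e := 0) B)).trans hZ1
  rw [hJ] at h3 hZ2
  have hP' : ¬ P₂ ≤ M := fun e => hP (h4.trans (sup_le e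
    ((inf_le_right.trans (centralizer_anti (cen_le_VV h1.syl))).trans hZ1)))
  have n : Nz p (thompsonSubgroupOf 0 B) P₂ M₂ := ⟨h3, base_J h1.pS h0,
    fun e => hP' ((le_centralizer_of_norm_cen h3 e).trans hZ2), by
      by_contra! hc
      exact h3.nn (thompsonSubgroupOf_le_iff.2 fun A hA => hc A ((mcl_of_max h1.pS h0 hA).of_le
        (le_thompsonSubgroupOf hA) (thompsonSubgroupOf_le B)))⟩
  have hM₂ : M₂ ≤ M := max_le n hZ2 hK
  refine ⟨pResOf p P₂, fun e => hP' (h3.le_of_pResOf_le e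
    (((thompsonSubgroupOf_le B).trans (bau_le S)).trans hSM)), ?_⟩
  have hQ : pCore p G ≤ normalizer (pResOf p P : Set G) := (wc_bau hS).le_normalizer'
    (pResOf_pResOf P) (h1.pIrrIn.commutator_pResOf h1.syl le_rfl le_normalizer h1.nn) isPGroup_pCore
    le_normalizer_of_normal le_normalizer_of_normal
  have hcc := commutator_pResOf_commutator' (p := p) (R := P₂) (isPGroup_pCore (G := G))
    le_normalizer_of_normal
  have hin : ∀ X : Subgroup G, ⁅pCore p G, pResOf p P₂⁆ ≤ X →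
      ⁅pCore p G, pResOf p P₂⁆ ≤ pCoreOf p X := fun X hX =>
    (le_inf hX ((commutator_le_left _ _).trans pCoreOf_top.ge)).trans (inf_pCoreOf_le le_top)
  have h6 : ⁅pCore p G, pResOf p P₂⁆ ≤ P₂ := hcc.ge.trans ((commutator_mono (hin P
    (((commutator_mono le_rfl (pResOf_mono hP₂)).trans (commutator_le_right_of_le_normalizer hQ)).trans
      (pResOf_le P))) (pResOf_le P₂)).trans h5)
  exact (le_inf (hin _ h6) (hcc.ge.trans (commutator_mono h6 (pResOf_le P₂)))).trans
    ((engel hp n).trans (commutator_mono hM₂ hM₂))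

end CfsgLib.Foc3
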